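import Mathlib.RingTheory.Length
import Mathlib.Algebra.Module.PID
import Mathlib.RingTheory.Nakayama
import Mathlib.RingTheory.DiscreteValuationRing.Basic

/-! Linear algebra of glued semilinear maps on finite length modules over a DVR. -/

set_option autoImplicit false
universe u v

namespace Groth.Agent.MiscTwoH99.FL

open Module

variable {R : Type u} [CommRing R] (σ : R →+* R) [RingHomSurjective σ]

theorem length_eq_of_bijective {A B : Type v} [AddCommGroup A] [AddCommGroup B] [Module R A]
    [Module R B] (f : A →ₛₗ[σ] B) (hf : Function.Bijective f) :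
    Module.length R A = Module.length R B := by
  let e : Submodule R A ≃o Submodule R B :=
    { toFun := Submodule.map f
      invFun := Submodule.comap f
      left_inv := fun p => Submodule.comap_map_eq_of_injective hf.1 p
      right_inv := fun p => Submodule.map_comap_eq_of_surjective hf.2 p
      map_rel_iff' := by
        intro a b
        refine ⟨fun h => ?_, fun h => Submodule.map_mono h⟩
        have h' := Submodule.comap_mono (f := f) h
        simpa [Submodule.comap_map_eq_of_injective hf.1] using h' }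
  have h := Order.krullDim_eq_of_orderIso e
  rw [← Module.coe_length, ← Module.coe_length] at h
  exact_mod_cast h

variable {N : ℕ → Type v} [∀ i, AddCommGroup (N i)] [∀ i, Module R (N i)]

/-- extension by zero -/
def ext0 (r : ℕ) (v : (i : Fin r) → N i) (i : ℕ) : N i := if h : i < r then v ⟨i, h⟩ else 0

theorem ext0_of_le (r : ℕ) (v : (i : Fin r) → N i) {i : ℕ} (h : r ≤ i) : ext0 r v i = 0 :=
  dif_neg (by omega)

theorem ext0_apply (r : ℕ) (v : (i : Fin r) → N i) (i : Fin r) : ext0 r v i = v i :=
  dif_pos i.2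

theorem ext0_add (r : ℕ) (v w : (i : Fin r) → N i) (i : ℕ) :
    ext0 r (v + w) i = ext0 r v i + ext0 r w i := by
  unfold ext0; split_ifs <;> simp

theorem ext0_smul (r : ℕ) (c : R) (v : (i : Fin r) → N i) (i : ℕ) :
    ext0 r (c • v) i = c • ext0 r v i := by
  unfold ext0; split_ifs <;> simp

variable (α : ∀ i, N (i + 1) →ₗ[R] N i) (c : R)

/-- the gluing map on sequences -/
def iota (z : (i : ℕ) → N (i + 1)) : (i : ℕ) → N i
  | 0 => α 0 (z 0)
  | i + 1 => α (i + 1) (z (i + 1)) - c • z i

/-- the gluing map on finite sequences -/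
def iotaL (r : ℕ) : ((i : Fin r) → N (i + 1)) →ₗ[R] ((i : Fin (r + 1)) → N i) where
  toFun z j := iota α c (ext0 (N := fun i => N (i + 1)) r z) j
  map_add' z w := by
    funext j
    obtain ⟨j, hj⟩ := j
    cases j with
    | zero => simp [iota, ext0_add (N := fun i => N (i + 1))] <;> rfl
    | succ j => simp [iota, ext0_add (N := fun i => N (i + 1))]; abel
  map_smul' a z := by
    funext j
    obtain ⟨j, hj⟩ := j
    cases j with
    | zero => simp [iota, ext0_smul (N := fun i => N (i + 1))] <;> rfl
    | succ j =>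
      simp [iota, ext0_smul (N := fun i => N (i + 1)), smul_sub, smul_comm c a]

/-- Counting lemma: if the semilinear sum is surjective with kernel inside the image of the gluing map,
the gluing map is injective. -/
theorem iota_injective (r : ℕ) (hfl : ∀ i, Module.length R (N i) ≠ ⊤)
    (φ : ∀ i, N i →ₛₗ[σ] N 0)
    (hsurj : ∀ m : N 0, ∃ y : (i : ℕ) → N i, (Finset.range (r + 1)).sum (fun i => φ i (y i)) = m)
    (hker : ∀ y : (i : ℕ) → N i, (∀ i, r < i → y i = 0) →
      (Finset.range (r + 1)).sum (fun i => φ i (y i)) = 0 →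
        ∃ z : (i : ℕ) → N (i + 1), (∀ i, r ≤ i → z i = 0) ∧ y = iota α c z)
    (z : (i : ℕ) → N (i + 1)) (hz : ∀ i, r ≤ i → z i = 0)
    (h0 : ∀ i, i ≤ r → iota α c z i = 0) : ∀ i, z i = 0 := by
  let Φ : ((i : Fin (r + 1)) → N i) →ₛₗ[σ] N 0 :=
    ∑ i : Fin (r + 1), (φ i).comp (LinearMap.proj i)
  have hΦ : ∀ v, Φ v = ∑ i : Fin (r + 1), φ i (v i) := fun v => by simp [Φ]
  have hΦs : Function.Surjective Φ := by
    intro m
    obtain ⟨y, hy⟩ := hsurj m
    refine ⟨fun i => y i, ?_⟩
    rw [hΦ, ← hy, Finset.sum_range]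
  let ι' := iotaL α c r
  have hle : LinearMap.ker Φ ≤ LinearMap.range ι' := by
    intro v hv
    rw [LinearMap.mem_ker, hΦ] at hv
    have hy : (Finset.range (r + 1)).sum (fun i => φ i (ext0 (r + 1) v i)) = 0 := by
      rw [Finset.sum_range]; simpa [ext0_apply] using hv
    obtain ⟨w, hw, e⟩ := hker (ext0 (r + 1) v) (fun i hi => ext0_of_le _ _ hi) hy
    refine ⟨fun i => w i, ?_⟩
    funext j
    have hext : ext0 (N := fun i => N (i + 1)) r (fun i => w i) = w := by
      funext i
      unfold ext0
      split_ifs with h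
      · rfl
      · exact (hw i (by omega)).symm
    show iota α c (ext0 (N := fun i => N (i + 1)) r (fun i => w i)) j = v j
    rw [hext, ← e, ext0_apply]
  -- lengths
  have hQ : Module.length R ((i : Fin r) → N (i + 1)) ≠ ⊤ := by
    rw [Module.length_pi_of_fintype]
    exact Finset.sum_induction _ (· ≠ ⊤) (fun a b ha hb => by simp [ha, hb]) (by simp) (fun i _ => hfl _)
  have hP : Module.length R ((i : Fin (r + 1)) → N i) =
      Module.length R (N 0) + Module.length R ((i : Fin r) → N (i + 1)) := by
    rw [Module.length_pi_of_fintype, Module.length_pi_of_fintype, Fin.sum_univ_succ]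
    rfl
  have hM : Module.length R (((i : Fin (r + 1)) → N i) ⧸ LinearMap.ker Φ) =
      Module.length R (N 0) := by
    refine length_eq_of_bijective σ ((LinearMap.ker Φ).liftQ Φ le_rfl) ⟨?_, ?_⟩
    · rw [← LinearMap.ker_eq_bot]
      exact Submodule.ker_liftQ_eq_bot _ _ _ le_rfl
    · intro m
      obtain ⟨v, hv⟩ := hΦs m
      exact ⟨Submodule.Quotient.mk v, hv⟩
  have e1 := Module.length_eq_add_of_exact (LinearMap.ker Φ).subtype (LinearMap.ker Φ).mkQ
    (Submodule.injective_subtype _) (Submodule.mkQ_surjective _)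
    (LinearMap.exact_subtype_mkQ _)
  rw [hM, hP] at e1
  have e2 := Module.length_eq_add_of_exact (LinearMap.ker ι').subtype ι'.rangeRestrict
    (Submodule.injective_subtype _) ι'.surjective_rangeRestrict
    (by
      intro v
      simp [← Subtype.coe_inj])
  have e3 : Module.length R (LinearMap.ker Φ) ≤ Module.length R (LinearMap.range ι') :=
    Module.length_le_of_injective (Submodule.inclusion hle) (Submodule.inclusion_injective hle)
  have hk : Module.length R (LinearMap.ker ι') = 0 := by
    have hlt := hfl 0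
    generalize Module.length R (N 0) = a at e1 hlt
    generalize Module.length R ((i : Fin r) → N (i + 1)) = b at e1 e2 hQ
    generalize Module.length R (LinearMap.ker Φ) = K at e1 e3
    generalize Module.length R (LinearMap.range ι') = I at e2 e3
    generalize Module.length R (LinearMap.ker ι') = K' at e2
    have hIb : I ≤ b := e2 ▸ le_add_self
    have hKb : K ≤ b := e3.trans hIb
    lift a to ℕ using hlt
    lift b to ℕ using hQ
    lift I to ℕ using ne_top_of_le_ne_top (ENat.natCast_ne_top b) hIb
    lift K to ℕ using ne_top_of_le_ne_top (ENat.natCast_ne_top b) hKb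
    lift K' to ℕ using ne_top_of_le_ne_top (ENat.natCast_ne_top b) (e2 ▸ le_self_add)
    norm_cast at e1 e2 e3 ⊢
    omega
  have hinj : Function.Injective ι' := by
    rw [← LinearMap.ker_eq_bot, ← Submodule.subsingleton_iff_eq_bot]
    exact Module.length_eq_zero_iff.1 hk
  have hz' : (fun i : Fin r => z i) = 0 := by
    apply hinj
    rw [map_zero]
    funext j
    have hext : ext0 (N := fun i => N (i + 1)) r (fun i => z i) = z := by
      funext i
      unfold ext0
      split_ifs with h
      · rfl
      · exact (hz i (by omega)).symm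
    show iota α c (ext0 (N := fun i => N (i + 1)) r (fun i => z i)) j = 0
    rw [hext]
    exact h0 j (by omega)
  intro i
  by_cases h : i < r
  · exact congrFun hz' ⟨i, h⟩
  · exact hz i (by omega)

/-- a finite length module is killed by a power of an element of the Jacobson radical -/
theorem exists_pow_smul_eq_zero (p : R) (hp : Ideal.span {p} ≤ Ideal.jacobson ⊥) (B : Type v)
    [AddCommGroup B] [Module R B] [IsArtinian R B] [IsNoetherian R B] :
    ∃ n : ℕ, ∀ b : B, p ^ n • b = 0 := by
  let f : ℕ →o (Submodule R B)ᵒᵈ :=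
    ⟨fun n => OrderDual.toDual (LinearMap.range (p ^ n • LinearMap.id : B →ₗ[R] B)), by
      intro a b hab
      show LinearMap.range (p ^ b • LinearMap.id : B →ₗ[R] B) ≤ _
      rintro _ ⟨x, rfl⟩
      refine ⟨p ^ (b - a) • x, ?_⟩
      simp [smul_smul, ← pow_add, Nat.sub_add_cancel hab]⟩
  obtain ⟨n, hn⟩ := IsArtinian.monotone_stabilizes f
  refine ⟨n, fun b => ?_⟩
  have hbot : LinearMap.range (p ^ n • LinearMap.id : B →ₗ[R] B) = ⊥ := by
    apply Submodule.eq_bot_of_le_smul_of_le_jacobson_bot (Ideal.span {p}) _ (IsNoetherian.noetherian _) ?_ hp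
    have : LinearMap.range (p ^ n • LinearMap.id : B →ₗ[R] B) =
        LinearMap.range (p ^ (n + 1) • LinearMap.id : B →ₗ[R] B) := hn (n + 1) (by omega)
    intro x hx
    rw [this] at hx
    obtain ⟨y, rfl⟩ := hx
    have : (p ^ (n + 1) • LinearMap.id : B →ₗ[R] B) y = p • (p ^ n • y) := by
      simp [smul_smul, pow_succ']
    rw [this]
    exact Submodule.smul_mem_smul (Ideal.mem_span_singleton_self p) ⟨y, rfl⟩
  have : (p ^ n • LinearMap.id : B →ₗ[R] B) b ∈ (⊥ : Submodule R B) := hbot ▸ LinearMap.mem_range_self _ b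
  simpa using this

/-- pure submodules of bounded p-torsion finite modules over a PID are direct summands -/
theorem exists_isCompl_of_pure [IsDomain R] [IsPrincipalIdealRing R] (p : R) (hp : Irreducible p)
    {B : Type v} [AddCommGroup B] [Module R B] [Module.Finite R B]
    (htor : ∀ b : B, ∃ n : ℕ, p ^ n • b = 0) (A : Submodule R B)
    (pure : ∀ (n : ℕ) (b : B), p ^ n • b ∈ A → ∃ a ∈ A, p ^ n • a = p ^ n • b) :
    ∃ Q : Submodule R B, IsCompl A Q := by
  classical
  have ht : Module.IsTorsion' (B ⧸ A) (Submonoid.powers p) := by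
    intro x
    obtain ⟨b, rfl⟩ := Submodule.Quotient.mk_surjective A x
    obtain ⟨n, hn⟩ := htor b
    refine ⟨⟨p ^ n, n, rfl⟩, ?_⟩
    show p ^ n • (Submodule.Quotient.mk b : B ⧸ A) = 0
    rw [← Submodule.Quotient.mk_smul, hn, Submodule.Quotient.mk_zero]
  obtain ⟨d, kk, ⟨e⟩⟩ := Module.torsion_by_prime_power_decomposition hp ht
  let gen : Fin d → B ⧸ A := fun i =>
    e.symm (DirectSum.lof R (Fin d) (fun i => R ⧸ R ∙ p ^ (kk i)) i (Submodule.Quotient.mk 1))
  have hgen : ∀ i, ∃ b : B, Submodule.Quotient.mk b = gen i ∧ p ^ (kk i) • b = 0 := by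
    intro i
    obtain ⟨b, hb⟩ := Submodule.Quotient.mk_surjective A (gen i)
    have h : p ^ (kk i) • b ∈ A := by
      rw [← Submodule.Quotient.mk_eq_zero, Submodule.Quotient.mk_smul, hb]
      have : (p ^ (kk i) • (Submodule.Quotient.mk 1 : R ⧸ R ∙ p ^ (kk i))) = 0 := by
        rw [← Submodule.Quotient.mk_smul, Submodule.Quotient.mk_eq_zero, smul_eq_mul, mul_one]
        exact Submodule.mem_span_singleton_self _
      simp only [gen]
      rw [← map_smul, ← map_smul, this, map_zero, map_zero]
    obtain ⟨a, ha, e'⟩ := pure _ _ h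
    refine ⟨b - a, ?_, by rw [smul_sub, e', sub_self]⟩
    rw [Submodule.Quotient.mk_sub, hb, (Submodule.Quotient.mk_eq_zero A).2 ha, sub_zero]
  choose b hb hb' using hgen
  let s' : (DirectSum (Fin d) fun i => R ⧸ R ∙ p ^ (kk i)) →ₗ[R] B :=
    DirectSum.toModule R (Fin d) B (fun i =>
      (R ∙ p ^ (kk i)).liftQ (LinearMap.toSpanSingleton R B (b i)) (by
        rw [Submodule.span_singleton_le_iff_mem]
        simp [hb' i]))
  let s : (B ⧸ A) →ₗ[R] B := s' ∘ₗ e.toLinearMap
  have hs : A.mkQ ∘ₗ s' = e.symm.toLinearMap := by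
    apply DirectSum.linearMap_ext
    intro i
    apply Submodule.linearMap_qext
    apply LinearMap.ext_ring
    simp only [LinearMap.comp_apply, LinearEquiv.coe_toLinearMap, Submodule.mkQ_apply, s',
      DirectSum.toModule_lof, Submodule.liftQ_apply, LinearMap.toSpanSingleton_apply, one_smul, hb, gen]
  have hs2 : ∀ x, A.mkQ (s x) = x := fun x => by
    have := LinearMap.congr_fun hs (e x)
    simpa [s] using this
  refine ⟨LinearMap.range s, ⟨?_, ?_⟩⟩
  · rw [Submodule.disjoint_def]
    rintro _ hA ⟨x, rfl⟩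
    have : x = 0 := by
      rw [← hs2 x]
      exact (Submodule.Quotient.mk_eq_zero A).2 hA
    rw [this, map_zero]
  · rw [codisjoint_iff, eq_top_iff]
    intro x _
    rw [Submodule.mem_sup]
    refine ⟨x - s (A.mkQ x), ?_, s (A.mkQ x), ⟨_, rfl⟩, sub_add_cancel _ _⟩
    rw [← Submodule.Quotient.mk_eq_zero, Submodule.Quotient.mk_sub]
    exact sub_eq_zero.2 (hs2 _).symm

end Groth.Agent.MiscTwoH99.FL
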